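import Mathlib.AlgebraicGeometry.Morphisms.Preimmersion
import Mathlib.RingTheory.AdjoinRoot
import Mathlib.RingTheory.IntegralClosure.IsIntegralClosure.Basic
import Mathlib.RingTheory.LocalRing.ResidueField.Ideal
import Mathlib.RingTheory.Finiteness.Basic
import Mathlib.RingTheory.Flat.Stability
import Mathlib.RingTheory.Finiteness.ModuleFinitePresentation
/-!
Realizing a finite field extension as a residue field of a finite free algebra.
-/
set_option autoImplicit false
universe u
open Polynomial

namespace Groth.Agent.RealizeExt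

variable {A : Type u} [CommRing A] {ℓ : Type u} [Field ℓ] [Algebra A ℓ]

theorem exists_monogenic {B : Type u} [CommRing B] [Algebra A B] [Module.Free A B] [Module.Finite A B]
    (ψ : B →ₐ[A] ℓ) (x : ℓ) (hx : IsIntegral A x) :
    ∃ (B' : Type u) (_ : CommRing B') (_ : Algebra A B'), Module.Free A B' ∧ Module.Finite A B' ∧
      Algebra.FinitePresentation A B' ∧ ∃ ψ' : B' →ₐ[A] ℓ, Set.range ψ ⊆ Set.range ψ' ∧ x ∈ Set.range ψ' := by
  obtain ⟨q, hq, hq0⟩ := hx
  let q' := q.map (algebraMap A B)
  have hq' : q'.Monic := hq.map _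
  haveI : Module.Free B (AdjoinRoot q') := hq'.free_adjoinRoot
  haveI : Module.Finite B (AdjoinRoot q') := hq'.finite_adjoinRoot
  haveI h1 : Module.Free A (AdjoinRoot q') := Module.Free.trans (R := A) (S := B)
  haveI h2 : Module.Finite A (AdjoinRoot q') := Module.Finite.trans B _
  refine ⟨AdjoinRoot q', inferInstance, inferInstance, h1, h2,
    haveI := Module.finitePresentation_of_projective A (AdjoinRoot q'); inferInstance,
    AdjoinRoot.liftAlgHom q' ψ x ?_, ?_, ⟨AdjoinRoot.root q', AdjoinRoot.liftAlgHom_root ..⟩⟩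
  · simp only [q', eval₂_map]
    rw [ψ.comp_algebraMap]
    exact hq0
  · rintro _ ⟨b, rfl⟩
    exact ⟨AdjoinRoot.of q' b, AdjoinRoot.liftAlgHom_of ..⟩

theorem exists_of_finset (s : Finset ℓ) (hs : ∀ x ∈ s, IsIntegral A x) :
    ∃ (B : Type u) (_ : CommRing B) (_ : Algebra A B), Module.Free A B ∧ Module.Finite A B ∧
      Algebra.FinitePresentation A B ∧ ∃ ψ : B →ₐ[A] ℓ, (s : Set ℓ) ⊆ Set.range ψ := by
  classical
  induction s using Finset.induction with
  | empty =>
    exact ⟨A, inferInstance, inferInstance, inferInstance, inferInstance,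
      inferInstance, Algebra.ofId A ℓ, by simp⟩
  | insert x s _ ih =>
    obtain ⟨B, _, _, hfree, hfin, -, ψ, hψ⟩ := ih fun y hy => hs y (Finset.mem_insert_of_mem hy)
    obtain ⟨B', _, _, h1, h2, h3, ψ', h4, h5⟩ := exists_monogenic ψ x (hs x (Finset.mem_insert_self x s))
    refine ⟨B', inferInstance, inferInstance, h1, h2, h3, ψ', ?_⟩
    rw [Finset.coe_insert]
    exact Set.insert_subset h5 (hψ.trans h4)

variable (k : Type u) [Field k] [Algebra A k] [Algebra k ℓ] [IsScalarTower A k ℓ]
  (hk : ∀ c : k, ∃ a b : A, algebraMap A k b ≠ 0 ∧ c = algebraMap A k a / algebraMap A k b)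

include hk

theorem exists_integral_mul (x : ℓ) (hx : IsIntegral k x) :
    ∃ a : A, algebraMap A ℓ a ≠ 0 ∧ IsIntegral A (algebraMap A ℓ a * x) := by
  classical
  obtain ⟨p, hp, hp0⟩ := hx
  choose num den hden hc using hk
  let b : ℕ → A := fun i => den (p.coeff i)
  let N := p.natDegree
  let P : A := ∏ i ∈ Finset.range (N + 1), b i
  let q : A[X] := ∑ i ∈ Finset.range (N + 1), C (num (p.coeff i) * ∏ j ∈ (Finset.range (N + 1)).erase i, b j) * X ^ i
  have hq : q.map (algebraMap A k) = C (algebraMap A k P) * p := by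
    simp only [q, Polynomial.map_sum, Polynomial.map_mul, Polynomial.map_pow, map_C, map_X]
    conv_rhs => rw [p.as_sum_range_C_mul_X_pow, Finset.mul_sum]
    refine Finset.sum_congr rfl fun i hi => ?_
    rw [← mul_assoc, ← C_mul]
    congr 2
    rw [map_mul, show P = b i * ∏ j ∈ (Finset.range (N + 1)).erase i, b j from (Finset.mul_prod_erase _ b hi).symm, map_mul]
    have h := hden (p.coeff i)
    nth_rw 2 [hc (p.coeff i)]
    field_simp
    rfl
  have hP : algebraMap A k P ≠ 0 := by
    rw [map_prod, Finset.prod_ne_zero_iff]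
    exact fun i _ => hden _
  have hdeg : q.natDegree = p.natDegree := by
    refine le_antisymm (natDegree_sum_le_of_forall_le _ _ fun i hi => (natDegree_C_mul_X_pow_le _ _).trans
      (Nat.lt_succ_iff.1 (Finset.mem_range.1 hi))) ?_
    calc p.natDegree = (q.map (algebraMap A k)).natDegree := by rw [hq, natDegree_C_mul hP]
      _ ≤ q.natDegree := natDegree_map_le
  refine ⟨q.leadingCoeff, ?_, ?_⟩
  · rw [IsScalarTower.algebraMap_apply A k ℓ, _root_.map_ne_zero]
    have h := congrArg (fun f => f.coeff p.natDegree) hq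
    simp only [coeff_map, coeff_C_mul, hp.coeff_natDegree, mul_one] at h
    rw [leadingCoeff, hdeg, h]
    exact hP
  · refine RingHom.isIntegralElem_leadingCoeff_mul (algebraMap A ℓ) q x ?_
    rw [IsScalarTower.algebraMap_eq A k ℓ, ← eval₂_map, hq, eval₂_mul, hp0, mul_zero]

open AlgebraicGeometry in
theorem exists_realize [Module.Finite k ℓ] :
    ∃ (B : Type u) (_ : CommRing B) (_ : Algebra A B), Module.Free A B ∧ Algebra.FinitePresentation A B ∧
      ∃ ψ : B →ₐ[A] ℓ, IsPreimmersion (Spec.map (CommRingCat.ofHom ψ.toRingHom)) := by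
  classical
  obtain ⟨s, hs⟩ := Module.Finite.fg_top (R := k) (M := ℓ)
  choose a ha hint using fun x : ℓ => exists_integral_mul k hk x (Algebra.IsIntegral.isIntegral x)
  obtain ⟨B, _, _, hfree, -, hfp, ψ, hψ⟩ := exists_of_finset (A := A) (s.image fun x => algebraMap A ℓ (a x) * x)
    (by simp only [Finset.mem_image]; rintro _ ⟨x, -, rfl⟩; exact hint x)
  refine ⟨B, inferInstance, inferInstance, hfree, hfp, ψ, ?_⟩
  let F : Subfield ℓ := Subfield.closure (Set.range ψ)
  have hA : ∀ c : A, algebraMap A ℓ c ∈ F := fun c => Subfield.subset_closure ⟨algebraMap A B c, ψ.commutes c⟩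
  have hF : ∀ z : ℓ, z ∈ F := by
    intro z
    have hz : z ∈ Submodule.span k (s : Set ℓ) := hs ▸ Submodule.mem_top
    induction hz using Submodule.span_induction with
    | mem x hx =>
      have h1 : algebraMap A ℓ (a x) * x ∈ F := Subfield.subset_closure (hψ (Finset.mem_image.2 ⟨x, hx, rfl⟩))
      have := F.mul_mem (F.inv_mem (hA (a x))) h1
      rwa [← mul_assoc, inv_mul_cancel₀ (ha x), one_mul] at this
    | zero => exact F.zero_mem
    | add x y _ _ hx hy => exact F.add_mem hx hy
    | smul c x _ hx =>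
      obtain ⟨u, v, hv, rfl⟩ := hk c
      rw [Algebra.smul_def, map_div₀, ← IsScalarTower.algebraMap_apply, ← IsScalarTower.algebraMap_apply]
      exact F.mul_mem (F.div_mem (hA u) (hA v)) hx
  let Q := RingHom.ker ψ.toRingHom
  haveI : Q.IsPrime := RingHom.ker_isPrime _
  let L : Q.ResidueField →+* ℓ := Ideal.ResidueField.lift Q ψ.toRingHom le_rfl
    fun b hb => IsUnit.mk0 _ fun h0 => hb h0
  have hL : ∀ b, L (algebraMap B Q.ResidueField b) = ψ b := fun b => Ideal.ResidueField.lift_algebraMap ..
  have hsurj : Function.Surjective L := by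
    intro z
    obtain ⟨y, hy, w, hw, rfl⟩ := Subfield.mem_closure_iff.1 (hF z)
    have hr : Subring.closure (Set.range ψ) ≤ ψ.toRingHom.range := Subring.closure_le.2 (by rintro _ ⟨b, rfl⟩; exact ⟨b, rfl⟩)
    obtain ⟨b, rfl⟩ := hr hy
    obtain ⟨c, rfl⟩ := hr hw
    exact ⟨algebraMap B _ b / algebraMap B _ c, by rw [map_div₀, hL, hL]; rfl⟩
  refine IsPreimmersion.mk_SpecMap ⟨⟨Subsingleton.elim _ _⟩, Function.injective_of_subsingleton _⟩ ?_
  have e : ψ.toRingHom = L.comp (algebraMap B Q.ResidueField) := RingHom.ext fun b => (hL b).symm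
  show ψ.toRingHom.SurjectiveOnStalks
  rw [e]
  exact (RingHom.surjectiveOnStalks_of_surjective hsurj).comp Q.surjectiveOnStalks_residueField

end Groth.Agent.RealizeExt
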